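import Groth.Agent.EGA4Lib.SmoothRegular
import Groth.Agent.CAlg76.RootPow
import Groth.Agent.RegLoc.Basic

/-!
# Regularity of `R[t]/(t^e - c)`, reducedness of regular rings
-/

set_option autoImplicit false
set_option linter.style.haveILetI false

open Polynomial

namespace Groth.Agent.CycCover

universe u

variable {R : Type u} [CommRing R]

theorem isReduced_of_isRegularRing [IsRegularRing R] : IsReduced R :=
  isReduced_ofLocalizationMaximal R fun J _ => by
    haveI : IsRegularLocalRing (Localization.AtPrime J) := inferInstance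
    haveI := RegLoc.isDomain (Localization.AtPrime J)
    infer_instance

theorem isRegularRing_of_etale {S : Type u} [CommRing S] [Algebra R S] [IsRegularRing R]
    [Algebra.Etale R S] : IsRegularRing S := by
  haveI : IsNoetherianRing S := Algebra.FiniteType.isNoetherianRing R S
  refine (isRegularRing_iff (R := S)).2 fun Q hQ => ?_
  exact EGA4Lib.mem_regLocus_of_etale (R := R) ⟨Q, hQ⟩
    (show IsRegularLocalRing (Localization.AtPrime _) from inferInstance)

/-- A root extraction of a nonzerodivisor cutting out a regular subscheme is regular. -/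
theorem isRegularRing_root [IsRegularRing R] (c : R) (hc : c ∈ nonZeroDivisors R)
    [IsRegularRing (R ⧸ Ideal.span {c})] (e : ℕ) (he : 0 < e) (heu : IsUnit (e : R)) :
    IsRegularRing (AdjoinRoot (X ^ e - C c)) := by
  let B := AdjoinRoot (X ^ e - C c)
  haveI : Module.Finite R B := (monic_X_pow_sub_C c he.ne').finite_adjoinRoot
  haveI : IsNoetherianRing B := Algebra.FiniteType.isNoetherianRing R B
  let t : B := AdjoinRoot.root _
  refine (isRegularRing_iff (R := B)).2 fun Q hQ ↦ ?_
  by_cases ht : t ∈ Q
  · haveI hq : IsRegularRing (B ⧸ Ideal.span {t}) :=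
      IsRegularRing.of_ringEquiv (CAlg76.RootPow.quotRootEquiv c e he).symm.toRingEquiv
    let q : Ideal (B ⧸ Ideal.span {t}) := Q.map (Ideal.Quotient.mk (Ideal.span {t}))
    have hker : RingHom.ker (Ideal.Quotient.mk (Ideal.span {t})) ≤ Q := by
      rw [Ideal.mk_ker]; exact (Ideal.span_singleton_le_iff_mem _).2 ht
    haveI : q.IsPrime := Ideal.map_isPrime_of_surjective Ideal.Quotient.mk_surjective hker
    have hcq : q.comap (Ideal.Quotient.mk (Ideal.span {t})) = Q := by
      rw [Ideal.comap_map_of_surjective _ Ideal.Quotient.mk_surjective,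
        ← RingHom.ker_eq_comap_bot, sup_eq_left]
      exact hker
    haveI := CAlg76.RootPow.isLocalization_quotient_atPrime (Ideal.span {t}) q Q hcq (Localization.AtPrime Q)
    haveI : IsRegularLocalRing ((Localization.AtPrime Q) ⧸
        (Ideal.span {t}).map (algebraMap B (Localization.AtPrime Q))) :=
      IsRegularLocalRing.of_ringEquiv (R := Localization.AtPrime q)
        (IsLocalization.algEquiv q.primeCompl _ _).toRingEquiv
    let t' := algebraMap B (Localization.AtPrime Q) t
    have hmap : (Ideal.span {t}).map (algebraMap B (Localization.AtPrime Q)) = Ideal.span {t'} := by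
      rw [Ideal.map_span, Set.image_singleton]
    haveI : IsRegularLocalRing ((Localization.AtPrime Q) ⧸ Ideal.span {t'}) :=
      IsRegularLocalRing.of_ringEquiv (Ideal.quotEquivOfEq hmap)
    refine RegLoc.isRegularLocalRing_of_quotient_span_singleton (x := t') ?_ ?_
    · exact (IsLocalization.AtPrime.to_map_mem_maximal_iff _ Q t).2 ht
    · exact IsLocalization.map_nonZeroDivisors_le Q.primeCompl _
        ⟨t, CAlg76.RootPow.root_mem_nonZeroDivisors c e he hc, rfl⟩
  · let Bt := Localization.Away t
    haveI : Algebra.Etale R Bt := CAlg76.RootPow.etale_away c e he heu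
    haveI : IsRegularRing Bt := isRegularRing_of_etale (R := R)
    have hdisj : Disjoint (Submonoid.powers t : Set B) (Q : Set B) := by
      refine Set.disjoint_left.2 ?_
      rintro _ ⟨m, rfl⟩ hm
      exact ht (hQ.mem_of_pow_mem m hm)
    let P : PrimeSpectrum Bt := ⟨Q.map (algebraMap B Bt),
      IsLocalization.isPrime_of_isPrime_disjoint (Submonoid.powers t) _ _ hQ hdisj⟩
    have hP : PrimeSpectrum.comap (algebraMap B Bt) P = ⟨Q, hQ⟩ :=
      PrimeSpectrum.ext (IsLocalization.under_map_of_isPrime_disjoint (Submonoid.powers t) _ hQ hdisj)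
    haveI : P.asIdeal.IsPrime := P.isPrime
    exact (EGA4Lib.isRegularLocalRing_congr hP).1 (IsRegularLocalRing.of_ringEquiv
      (IsLocalization.localizationLocalizationAtPrimeIsoLocalization (Submonoid.powers t) P.asIdeal).symm.toRingEquiv)

/-- `R[v]/(v^e - u)` is étale for a unit `u` and `e` invertible. -/
theorem etale_root_unit (u : Rˣ) (e : ℕ) (he : 0 < e) (heu : IsUnit (e : R)) :
    Algebra.Etale R (AdjoinRoot (X ^ e - C (u : R))) := by
  haveI := CAlg76.RootPow.etale_away (u : R) e he heu
  have hu : IsUnit (AdjoinRoot.root (X ^ e - C (u : R))) := by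
    have h := AdjoinRoot.eval₂_root (X ^ e - C (u : R))
    rw [eval₂_sub, eval₂_X_pow, eval₂_C, sub_eq_zero] at h
    refine (isUnit_pow_iff he.ne').1 ?_
    rw [h]
    exact u.isUnit.map _
  exact Algebra.Etale.of_equiv
    ((IsLocalization.atUnit _ (Localization.Away (AdjoinRoot.root (X ^ e - C (u : R)))) _ hu).restrictScalars R).symm

/-- An element is in a subring if it is integral over it and becomes a member after multiplying by a
power of `s`, when the subring modulo `s` is reduced. -/
theorem mem_range_of_isIntegral {K : Type u} [CommRing K] (φ : R →+* K) (s : R)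
    [IsReduced (R ⧸ Ideal.span {s})] (hs : IsUnit (φ s)) (hinj : Function.Injective φ)
    {x : K} (hx : φ.IsIntegralElem x) (m : ℕ) (hm : x * φ s ^ m ∈ φ.range) : x ∈ φ.range := by
  induction m with
  | zero => simpa using hm
  | succ m ih =>
    refine ih ?_
    obtain ⟨a, ha⟩ := hm
    obtain ⟨p, hp, hpx⟩ := hx
    have h1 : (p.scaleRoots (s ^ (m + 1))).eval a = 0 := by
      refine hinj ?_
      rw [map_zero, ← Polynomial.eval₂_hom, ha, ← map_pow, mul_comm]
      exact Polynomial.scaleRoots_eval₂_eq_zero φ hpx
    have h2 : Ideal.Quotient.mk (Ideal.span {s}) a = 0 := by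
      refine IsReduced.eq_zero _ ⟨p.natDegree, ?_⟩
      have hs0 : Ideal.Quotient.mk (Ideal.span {s}) s = 0 :=
        Ideal.Quotient.eq_zero_iff_mem.2 (Ideal.mem_span_singleton_self s)
      have h3 := congrArg (Ideal.Quotient.mk (Ideal.span {s})) h1
      rw [Polynomial.eval_eq_sum_range, natDegree_scaleRoots, Finset.sum_range_succ, map_add,
        map_sum, Finset.sum_eq_zero (fun i hi => ?_), zero_add, map_zero] at h3
      · simpa [hp.coeff_natDegree] using h3
      · have hi' : p.natDegree - i ≠ 0 := (Nat.sub_pos_of_lt (Finset.mem_range.1 hi)).ne'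
        simp [hs0, zero_pow hi']
    obtain ⟨a', rfl⟩ := Ideal.mem_span_singleton'.1 (Ideal.Quotient.eq_zero_iff_mem.1 h2)
    refine ⟨a', hs.mul_right_cancel ?_⟩
    rw [← map_mul, ha, pow_succ, mul_assoc]

end Groth.Agent.CycCover
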