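import Groth.Agent.CycCover.Regular

/-!
# The normalised `N`-th root cover of `u f^α`

`L` is a `B`-algebra with units `T`, `F` such that `F = f` and `T^N = u F^α`, universal as such.
-/

set_option autoImplicit false
set_option linter.style.haveILetI false

open Polynomial

noncomputable section

namespace Groth.Agent.CycCover

universe u

section Group

variable {G : Type*} [CommGroup G] (P Q : G)

theorem zpow_pair_mul (i j k l : ℤ) : (P ^ i * Q ^ j) * (P ^ k * Q ^ l) = P ^ (i + k) * Q ^ (j + l) := by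
  rw [zpow_add, zpow_add, mul_mul_mul_comm]

theorem zpow_pair_zpow (i j k : ℤ) : (P ^ i * Q ^ j) ^ k = P ^ (i * k) * Q ^ (j * k) := by
  rw [mul_zpow, zpow_mul, zpow_mul]

variable {T F U : G} {N α g n a : ℕ} {x y : ℤ}

/-- `v = T^n F^{-a}` satisfies `v^g = U`. -/
theorem group_v_pow (hT : T ^ N = U * F ^ α) (hNn : N = g * n) (hα : α = g * a) :
    (T ^ (n : ℤ) * F ^ (-(a : ℤ))) ^ g = U := by
  rw [← zpow_natCast _ g, zpow_pair_zpow, show (n : ℤ) * g = (N : ℕ) by rw [hNn]; push_cast; ring,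
    zpow_natCast, hT, show -(a : ℤ) * g = -(α : ℕ) by rw [hα]; push_cast; ring, zpow_neg, zpow_natCast]
  exact mul_inv_cancel_right U (F ^ α)

/-- `s = T^x F^y` satisfies `s^n = v^x F`. -/
theorem group_s_pow (hxy : x * a + y * n = 1) :
    (T ^ x * F ^ y) ^ n = (T ^ (n : ℤ) * F ^ (-(a : ℤ))) ^ x * F := by
  rw [← zpow_natCast _ n, zpow_pair_zpow, zpow_pair_zpow, mul_assoc, ← zpow_add_one, mul_comm x]
  congr 2
  linarith

/-- `T = s^a v^y`. -/
theorem group_T_eq (hxy : x * a + y * n = 1) :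
    T = (T ^ x * F ^ y) ^ (a : ℤ) * (T ^ (n : ℤ) * F ^ (-(a : ℤ))) ^ y := by
  rw [zpow_pair_zpow, zpow_pair_zpow, zpow_pair_mul, show x * a + n * y = 1 by linarith,
    show y * a + -(a : ℤ) * y = 0 by ring, zpow_one, zpow_zero, mul_one]

/-- `(S^a V^y)^N = U F^α` if `V^g = U` and `S^n = V^x F`. -/
theorem group_T_pow {S V : G} (hV : V ^ g = U) (hS : S ^ n = V ^ x * F) (hNn : N = g * n)
    (hα : α = g * a) (hxy : x * a + y * n = 1) : (S ^ (a : ℤ) * V ^ y) ^ N = U * F ^ α := by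
  have hF : F = S ^ (n : ℤ) * V ^ (-x) := by
    rw [zpow_natCast, hS, mul_comm, ← mul_assoc, zpow_neg, inv_mul_cancel, one_mul]
  have hU : U = S ^ (0 : ℤ) * V ^ (g : ℤ) := by rw [zpow_zero, one_mul, zpow_natCast, hV]
  rw [← zpow_natCast _ N, ← zpow_natCast F α, hF, hU, zpow_pair_zpow, zpow_pair_zpow, zpow_pair_mul]
  congr 2
  · rw [hNn, hα]; push_cast; ring
  · rw [hNn, hα]; push_cast; linear_combination (g : ℤ) * hxy

/-- `(S^a V^y)^x F^y = S` if `S^n = V^x F`. -/
theorem group_s_eq {S V : G} (hS : S ^ n = V ^ x * F) (hxy : x * a + y * n = 1) :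
    (S ^ (a : ℤ) * V ^ y) ^ x * F ^ y = S := by
  have hF : F = S ^ (n : ℤ) * V ^ (-x) := by
    rw [zpow_natCast, hS, mul_comm, ← mul_assoc, zpow_neg, inv_mul_cancel, one_mul]
  rw [hF, zpow_pair_zpow, zpow_pair_zpow, zpow_pair_mul, show (a : ℤ) * x + n * y = 1 by linarith,
    show y * x + -x * y = 0 by ring, zpow_one, zpow_zero, mul_one]

/-- `(S^a V^y)^n F^{-a} = V` if `S^n = V^x F`. -/
theorem group_v_eq {S V : G} (hS : S ^ n = V ^ x * F) (hxy : x * a + y * n = 1) :
    (S ^ (a : ℤ) * V ^ y) ^ (n : ℤ) * F ^ (-(a : ℤ)) = V := by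
  have hF : F = S ^ (n : ℤ) * V ^ (-x) := by
    rw [zpow_natCast, hS, mul_comm, ← mul_assoc, zpow_neg, inv_mul_cancel, one_mul]
  rw [hF, zpow_pair_zpow, zpow_pair_zpow, zpow_pair_mul, show (a : ℤ) * n + n * -(a : ℤ) = 0 by ring,
    show y * n + -x * -(a : ℤ) = 1 by linarith, zpow_one, zpow_zero, one_mul]

end Group

variable {B : Type u} [CommRing B] {N α : ℕ} {u : Bˣ} {f : B}
variable {L : Type u} [CommRing L] [Algebra B L] (T F : Lˣ)

/-- The normalised algebra. -/
def normAlg (N α : ℕ) : Subalgebra B L :=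
  Algebra.adjoin B (Set.range fun i : Fin N => ((T ^ (i : ℕ) * F⁻¹ ^ ((i : ℕ) * α / N) : Lˣ) : L))

/-- The image of `u` among the units of a `B`-algebra. -/
abbrev unitMap (u : Bˣ) (L : Type u) [CommRing L] [Algebra B L] : Lˣ :=
  Units.map (algebraMap B L).toMonoidHom u

variable {g n a : ℕ}

/-- Monomials of nonnegative degree are in the normalised algebra. -/
theorem monomial_mem (hF : (F : L) = algebraMap B L f) (hT : T ^ N = unitMap u L * F ^ α)
    (hg : 0 < g) (hn : 0 < n) (hNn : N = g * n) (hα : α = g * a) (i j : ℤ) (h : 0 ≤ i * a + j * n) :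
    ((T ^ i * F ^ j : Lˣ) : L) ∈ normAlg (B := B) T F N α := by
  have hN : (0 : ℤ) < N := by
    have := Nat.mul_pos hg hn
    omega
  obtain ⟨r, q, hi, hrN⟩ : ∃ (r : ℕ) (q : ℤ), i = (r : ℤ) + N * q ∧ r < N := by
    obtain ⟨r, hr⟩ := Int.eq_ofNat_of_zero_le (Int.emod_nonneg i hN.ne')
    refine ⟨r, i / N, by rw [← hr]; exact (Int.emod_add_mul_ediv i N).symm, ?_⟩
    have := Int.emod_lt_of_pos i hN
    omega
  subst hi
  have hfl : r * α / N = r * a / n := by
    rw [hα, hNn, show r * (g * a) = g * (r * a) by ring]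
    exact Nat.mul_div_mul_left _ _ hg
  obtain ⟨m, hm⟩ : ∃ m : ℕ, (α : ℤ) * q + j + ((r * α / N : ℕ) : ℤ) = m := by
    refine ⟨_, (Int.toNat_of_nonneg ?_).symm⟩
    rw [hfl]
    have h1 : (r : ℤ) * a + ((α : ℤ) * q + j) * n ≥ 0 := by
      rw [show (N : ℤ) = g * n by exact_mod_cast hNn] at h
      rw [show (α : ℤ) = g * a by exact_mod_cast hα]
      linarith
    have h2 : ((r * a : ℕ) : ℤ) < n * ((r * a / n : ℕ) + 1 : ℤ) := by
      exact_mod_cast Nat.lt_mul_div_succ (r * a) hn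
    push_cast at h2 ⊢
    nlinarith
  have key : T ^ ((r : ℤ) + N * q) * F ^ j =
      (T ^ r * F⁻¹ ^ (r * α / N)) * F ^ m * unitMap u L ^ q := by
    rw [zpow_add, zpow_mul, zpow_natCast, zpow_natCast T, hT, mul_zpow, ← zpow_natCast F α,
      ← zpow_mul, inv_pow, ← zpow_natCast F (r * α / N), ← zpow_natCast F m, ← hm, ← zpow_neg]
    simp only [mul_assoc, mul_left_comm _ (unitMap u L ^ q), mul_comm _ (unitMap u L ^ q)]
    congr 1
    simp only [← mul_assoc, mul_left_comm T, ← zpow_add, zpow_neg]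
    simp [zpow_add, mul_assoc, mul_comm, mul_left_comm]
  rw [key, Units.val_mul, Units.val_mul]
  refine mul_mem (mul_mem (Algebra.subset_adjoin ⟨⟨r, hrN⟩, rfl⟩) ?_) ?_
  · rw [Units.val_pow_eq_pow_val, hF]
    exact pow_mem (Subalgebra.algebraMap_mem _ f) m
  · rw [unitMap, ← map_zpow]
    exact Subalgebra.algebraMap_mem _ _

/-! ### The presentation -/

variable (u f g n) (x : ℤ)

theorem isUnit_v (hg : 0 < g) : IsUnit (AdjoinRoot.root (X ^ g - C (u : B))) := by
  refine (isUnit_pow_iff hg.ne').1 ?_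
  have h := AdjoinRoot.eval₂_root (X ^ g - C (u : B))
  rw [eval₂_sub, eval₂_X_pow, eval₂_C, sub_eq_zero] at h
  rw [h]
  exact u.isUnit.map _

/-- `v` as a unit. -/
def unitV (hg : 0 < g) : (AdjoinRoot (X ^ g - C (u : B)))ˣ := (isUnit_v u g hg).unit

theorem unitV_pow (hg : 0 < g) : unitV u g hg ^ g = unitMap u (AdjoinRoot (X ^ g - C (u : B))) := by
  ext
  simp only [Units.val_pow_eq_pow_val, unitV, IsUnit.unit_spec, unitMap, Units.coe_map]
  have h := AdjoinRoot.eval₂_root (X ^ g - C (u : B))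
  rw [eval₂_sub, eval₂_X_pow, eval₂_C, sub_eq_zero] at h
  exact h

/-- The constant `v^x f`. -/
def cst (hg : 0 < g) : AdjoinRoot (X ^ g - C (u : B)) :=
  ((unitV u g hg ^ x : (AdjoinRoot (X ^ g - C (u : B)))ˣ) : AdjoinRoot (X ^ g - C (u : B))) * algebraMap B _ f

/-- The model `B[v,s]/(v^g - u, s^n - v^x f)`. -/
abbrev Model (hg : 0 < g) : Type u := AdjoinRoot (X ^ n - C (cst u f g x hg))

theorem finite_model (hg : 0 < g) (hn : 0 < n) : Module.Finite B (Model u f g n x hg) := by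
  haveI : Module.Finite B (AdjoinRoot (X ^ g - C (u : B))) := (monic_X_pow_sub_C (u : B) hg.ne').finite_adjoinRoot
  haveI : Module.Finite (AdjoinRoot (X ^ g - C (u : B))) (Model u f g n x hg) :=
    (monic_X_pow_sub_C (cst u f g x hg) hn.ne').finite_adjoinRoot
  exact Module.Finite.trans (AdjoinRoot (X ^ g - C (u : B))) _

theorem free_model (hg : 0 < g) (hn : 0 < n) : Module.Free B (Model u f g n x hg) := by
  haveI : Module.Free B (AdjoinRoot (X ^ g - C (u : B))) := (monic_X_pow_sub_C (u : B) hg.ne').free_adjoinRoot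
  haveI : Module.Free (AdjoinRoot (X ^ g - C (u : B))) (Model u f g n x hg) :=
    (monic_X_pow_sub_C (cst u f g x hg) hn.ne').free_adjoinRoot
  exact Module.Free.trans (S := AdjoinRoot (X ^ g - C (u : B)))

variable [IsDomain B]

theorem isRegularRing_model (hg : 0 < g) (hn : 0 < n) (hgB : IsUnit (g : B)) (hnB : IsUnit (n : B))
    [IsRegularRing B] [IsRegularRing (B ⧸ Ideal.span {f})] (hf : f ≠ 0) :
    IsRegularRing (Model u f g n x hg) ∧
      IsReduced (Model u f g n x hg ⧸ Ideal.span {AdjoinRoot.root (X ^ n - C (cst u f g x hg))}) := by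
  let R := AdjoinRoot (X ^ g - C (u : B))
  haveI : Algebra.Etale B R := etale_root_unit u g hg hgB
  haveI : IsRegularRing R := isRegularRing_of_etale (R := B)
  haveI : IsRegularRing (R ⧸ (Ideal.span {f}).map (algebraMap B R)) := by
    haveI : IsRegularRing (TensorProduct B (B ⧸ Ideal.span {f}) R) :=
      isRegularRing_of_etale (R := B ⧸ Ideal.span {f})
    haveI : IsRegularRing (TensorProduct B R (B ⧸ Ideal.span {f})) :=
      IsRegularRing.of_ringEquiv (Algebra.TensorProduct.comm B (B ⧸ Ideal.span {f}) R).toRingEquiv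
    exact IsRegularRing.of_ringEquiv
      (Algebra.TensorProduct.quotIdealMapEquivTensorQuot R (Ideal.span {f})).symm.toRingEquiv
  haveI : IsRegularRing (R ⧸ Ideal.span {cst u f g x hg}) := by
    refine IsRegularRing.of_ringEquiv (Ideal.quotEquivOfEq ?_) (R := R ⧸ (Ideal.span {f}).map (algebraMap B R))
    rw [Ideal.map_span, Set.image_singleton, cst, Ideal.span_singleton_mul_left_unit (Units.isUnit _)]
  have hc : cst u f g x hg ∈ nonZeroDivisors R := by
    refine mul_mem (Units.isUnit _).mem_nonZeroDivisors ?_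
    haveI : Module.Free B R := (monic_X_pow_sub_C (u : B) hg.ne').free_adjoinRoot
    rw [mem_nonZeroDivisors_iff_right]
    intro y hy
    rw [mul_comm, ← Algebra.smul_def] at hy
    exact (smul_eq_zero.1 hy).resolve_left hf
  refine ⟨isRegularRing_root _ hc n hn (by simpa using hnB.map (algebraMap B R)), ?_⟩
  haveI : IsReduced (R ⧸ Ideal.span {cst u f g x hg}) := isReduced_of_isRegularRing
  exact isReduced_of_injective _ (CAlg76.RootPow.quotRootEquiv (cst u f g x hg) n hn).injective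

variable {u f g n}

omit [IsDomain B] in
/-- Any algebra map sends `cst` to `V^x f`. -/
theorem map_cst {L' : Type u} [CommRing L'] [Algebra B L'] (hg : 0 < g) (x : ℤ)
    (ι : AdjoinRoot (X ^ g - C (u : B)) →ₐ[B] L') :
    ι (cst u f g x hg) = ((Units.map ι.toMonoidHom (unitV u g hg) ^ x : L'ˣ) : L') * algebraMap B L' f := by
  rw [cst, map_mul, AlgHom.commutes, ← map_zpow]
  rfl

omit [IsDomain B] in
/-- The root of the model. -/
theorem root_model_pow (hg : 0 < g) (x : ℤ) :
    (AdjoinRoot.root (X ^ n - C (cst u f g x hg))) ^ n = AdjoinRoot.of _ (cst u f g x hg) := by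
  have h := AdjoinRoot.eval₂_root (X ^ n - C (cst u f g x hg))
  rwa [eval₂_sub, eval₂_X_pow, eval₂_C, sub_eq_zero] at h

omit [IsDomain B] in
/-- Algebra maps out of the model are determined on `v` and `s`. -/
theorem model_hom_ext {L' : Type u} [CommRing L'] [Algebra B L'] (hg : 0 < g) (x : ℤ)
    {φ ψ : Model u f g n x hg →ₐ[B] L'} (hs : φ (AdjoinRoot.root _) = ψ (AdjoinRoot.root _))
    (hv : φ (AdjoinRoot.of _ (AdjoinRoot.root (X ^ g - C (u : B)))) =
      ψ (AdjoinRoot.of _ (AdjoinRoot.root (X ^ g - C (u : B))))) : φ = ψ := by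
  refine AdjoinRoot.algHom_ext' ?_ hs
  exact AdjoinRoot.algHom_ext hv

theorem exists_comp_eq (hF : (F : L) = algebraMap B L f)
    (huniv : ∀ (L' : Type u) [CommRing L'] [Algebra B L'] (T' F' : L'ˣ),
      (F' : L') = algebraMap B L' f → T' ^ N = unitMap u L' * F' ^ α →
        ∃ ψ : L →ₐ[B] L', ψ (T : L) = T')
    (hg : 0 < g) (hn : 0 < n) (hNn : N = g * n) (hα : α = g * a)
    (x y : ℤ) (hxy : x * a + y * n = 1) (hf : f ≠ 0) (φ : Model u f g n x hg →ₐ[B] L)
    (hφs : φ (AdjoinRoot.root _) = ((T ^ x * F ^ y : Lˣ) : L))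
    (hφv : φ (AdjoinRoot.of _ (AdjoinRoot.root (X ^ g - C (u : B)))) =
      ((T ^ (n : ℤ) * F ^ (-(a : ℤ)) : Lˣ) : L)) : ∀ (L' : Type u) [CommRing L'] [Algebra B L'] (j : Model u f g n x hg →ₐ[B] L'),
      IsUnit (algebraMap B L' f) → ∃ ψ : L →ₐ[B] L', ψ.comp φ = j := by
  intro L' _ _ j hfL
  let ι : AdjoinRoot (X ^ g - C (u : B)) →ₐ[B] L' :=
    j.comp (IsScalarTower.toAlgHom B (AdjoinRoot (X ^ g - C (u : B))) (Model u f g n x hg))
  let V : L'ˣ := Units.map ι.toMonoidHom (unitV u g hg)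
  have hVg : V ^ g = unitMap u L' := by
    rw [← map_pow, unitV_pow]
    exact Units.ext (ι.commutes _)
  have hS : (j (AdjoinRoot.root _)) ^ n = ((V ^ x * hfL.unit : L'ˣ) : L') := by
    rw [Units.val_mul, IsUnit.unit_spec]
    exact (map_pow j _ _).symm.trans ((congrArg j (root_model_pow hg x)).trans (map_cst hg x ι))
  have hSu : IsUnit (j (AdjoinRoot.root _)) := (isUnit_pow_iff hn.ne').1 (hS ▸ Units.isUnit _)
  have hS' : hSu.unit ^ n = V ^ x * hfL.unit := Units.ext hS
  obtain ⟨ψ, hψ⟩ := huniv L' (hSu.unit ^ (a : ℤ) * V ^ y) hfL.unit hfL.unit_spec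
    (group_T_pow hVg hS' hNn hα hxy)
  have hψT : Units.map ψ.toMonoidHom T = hSu.unit ^ (a : ℤ) * V ^ y := Units.ext hψ
  have hψF : Units.map ψ.toMonoidHom F = hfL.unit := Units.ext (by
    show ψ (F : L) = _
    rw [hF, AlgHom.commutes, IsUnit.unit_spec])
  have h1 : Units.map ψ.toMonoidHom (T ^ x * F ^ y) = hSu.unit := by
    rw [map_mul, map_zpow, map_zpow, hψT, hψF]
    exact group_s_eq hS' hxy
  have h2 : Units.map ψ.toMonoidHom (T ^ (n : ℤ) * F ^ (-(a : ℤ))) = V := by
    rw [map_mul, map_zpow, map_zpow, hψT, hψF]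
    exact group_v_eq hS' hxy
  exact ⟨ψ, model_hom_ext hg x ((congrArg ψ hφs).trans (congrArg Units.val h1))
    ((congrArg ψ hφv).trans (congrArg Units.val h2))⟩

theorem injective_of_comp (hg : 0 < g) (hn : 0 < n) (x : ℤ) (hf : f ≠ 0) (φ : Model u f g n x hg →ₐ[B] L)
    (h : ∀ (L' : Type u) [CommRing L'] [Algebra B L'] (j : Model u f g n x hg →ₐ[B] L'),
      IsUnit (algebraMap B L' f) → ∃ ψ : L →ₐ[B] L', ψ.comp φ = j) : Function.Injective φ := by
  haveI : Module.Free B (Model u f g n x hg) := free_model u f g n x hg hn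
  let c := algebraMap B (Model u f g n x hg) f
  obtain ⟨ψ, hψ⟩ := h (Localization.Away c) (IsScalarTower.toAlgHom B _ _) (by
    rw [IsScalarTower.algebraMap_apply B (Model u f g n x hg) (Localization.Away c)]
    exact IsLocalization.Away.algebraMap_isUnit c)
  have hreg : Submonoid.powers c ≤ nonZeroDivisors (Model u f g n x hg) := by
    refine Submonoid.powers_le.2 ?_
    rw [mem_nonZeroDivisors_iff_right]
    intro z hz
    rw [mul_comm, ← Algebra.smul_def] at hz
    exact (smul_eq_zero.1 hz).resolve_left hf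
  intro z w hzw
  have h1 := (AlgHom.congr_fun hψ z).symm.trans ((congrArg ψ hzw).trans (AlgHom.congr_fun hψ w))
  exact IsLocalization.injective (Localization.Away c) hreg h1

/-- The presentation of the normalised algebra. -/
theorem exists_presentation (hF : (F : L) = algebraMap B L f) (hT : T ^ N = unitMap u L * F ^ α)
    (hgen : ∀ b : L, ∃ (m : ℕ) (p : B[X]), b * algebraMap B L f ^ m = aeval (T : L) p)
    (huniv : ∀ (L' : Type u) [CommRing L'] [Algebra B L'] (T' F' : L'ˣ),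
      (F' : L') = algebraMap B L' f → T' ^ N = unitMap u L' * F' ^ α →
        ∃ ψ : L →ₐ[B] L', ψ (T : L) = T')
    (hg : 0 < g) (hn : 0 < n) (hNn : N = g * n) (hα : α = g * a)
    (x y : ℤ) (hxy : x * a + y * n = 1) (hf : f ≠ 0) :
    ∃ φ : Model u f g n x hg →ₐ[B] L, Function.Injective φ ∧ φ.range = normAlg (B := B) T F N α ∧
      IsUnit (φ (AdjoinRoot.root _)) ∧
      ∀ b : L, ∃ m : ℕ, b * φ (AdjoinRoot.root _) ^ m ∈ φ.range := by
  classical
  set v : Lˣ := T ^ (n : ℤ) * F ^ (-(a : ℤ)) with hv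
  set s : Lˣ := T ^ x * F ^ y with hs
  have hvg : v ^ g = unitMap u L := group_v_pow hT hNn hα
  have hsn : s ^ n = v ^ x * F := group_s_pow hxy
  have hTsv : T = s ^ (a : ℤ) * v ^ y := group_T_eq hxy
  clear_value v s
  let φ₁ : AdjoinRoot (X ^ g - C (u : B)) →ₐ[B] L :=
    AdjoinRoot.liftAlgHom _ (Algebra.ofId B L) (v : L) (by
      rw [eval₂_sub, eval₂_X_pow, eval₂_C, ← Units.val_pow_eq_pow_val, hvg, sub_eq_zero]
      rfl)
  have hφV : Units.map φ₁.toMonoidHom (unitV u g hg) = v := by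
    ext
    simp [φ₁, unitV]
  have hφz : ∀ q : ℤ, φ₁ ((unitV u g hg ^ q : (AdjoinRoot (X ^ g - C (u : B)))ˣ) : AdjoinRoot (X ^ g - C (u : B))) =
      ((v ^ q : Lˣ) : L) := fun q => by
    rw [← hφV, ← map_zpow]
    rfl
  have hφc : φ₁ (cst u f g x hg) = ((s ^ n : Lˣ) : L) := by
    rw [hsn, cst, map_mul, AlgHom.commutes, hφz, Units.val_mul, hF]
  let φ : Model u f g n x hg →ₐ[B] L :=
    AdjoinRoot.liftAlgHom _ φ₁ (s : L) (by
      rw [eval₂_sub, eval₂_X_pow, eval₂_C, AlgHom.coe_toRingHom, hφc, Units.val_pow_eq_pow_val, sub_self])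
  have hφs : φ (AdjoinRoot.root _) = s := AdjoinRoot.liftAlgHom_root _ _ _ _
  have hφv : ∀ r, φ (AdjoinRoot.of _ r) = φ₁ r := fun r => AdjoinRoot.liftAlgHom_of _ _ _ _ r
  have hvmem : ∀ q : ℤ, ((v ^ q : Lˣ) : L) ∈ φ.range := fun q => ⟨AdjoinRoot.of _ _, (hφv _).trans (hφz q)⟩
  have hsmem : ∀ q : ℕ, ((s ^ q : Lˣ) : L) ∈ φ.range := fun q =>
    ⟨AdjoinRoot.root _ ^ q, by show φ _ = _; rw [map_pow, hφs, Units.val_pow_eq_pow_val]⟩
  have hmem := monomial_mem T F hF hT hg hn hNn hα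
  have hrange : φ.range = normAlg (B := B) T F N α := by
    refine le_antisymm ?_ (Algebra.adjoin_le ?_)
    · rintro _ ⟨z, rfl⟩
      show φ z ∈ _
      induction z using AdjoinRoot.induction_on with
      | _ p =>
        induction p using Polynomial.induction_on' with
        | add p q hp hq => rw [map_add, map_add]; exact add_mem hp hq
        | monomial m r =>
          rw [← C_mul_X_pow_eq_monomial, map_mul, map_pow, AdjoinRoot.mk_C, AdjoinRoot.mk_X, map_mul,
            map_pow, hφs, hφv]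
          refine mul_mem ?_ (pow_mem ?_ m)
          · induction r using AdjoinRoot.induction_on with
            | _ q =>
              rw [show φ₁ (AdjoinRoot.mk _ q) = aeval (v : L) q from AdjoinRoot.liftAlgHom_mk _ _ _ _ q]
              refine Algebra.adjoin_le ?_ (aeval_mem_adjoin_singleton B _)
              rw [Set.singleton_subset_iff]
              rw [hv]
              exact hmem _ _ (le_of_eq (by ring))
          · rw [hs]
            exact hmem x y (by rw [hxy]; exact zero_le_one)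
    · rintro _ ⟨⟨i, hi⟩, rfl⟩
      obtain ⟨q, hq⟩ : ∃ q, i * a = n * (i * α / N) + q := by
        refine Nat.exists_eq_add_of_le ?_
        rw [show i * α / N = i * a / n by
          rw [hα, hNn, show i * (g * a) = g * (i * a) by ring]; exact Nat.mul_div_mul_left _ _ hg]
        exact Nat.mul_div_le _ _
      have hq' : ((i : ℤ) * a) = n * ((i * α / N : ℕ) : ℤ) + q := by exact_mod_cast hq
      have hFsv : F = s ^ (n : ℤ) * v ^ (-x) := by
        rw [zpow_natCast, hsn, mul_comm, ← mul_assoc, zpow_neg, inv_mul_cancel, one_mul]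
      have key : T ^ i * F⁻¹ ^ (i * α / N) = s ^ q * v ^ (y * i + x * (i * α / N : ℕ)) := by
        rw [inv_pow, ← zpow_natCast F, ← zpow_neg, ← zpow_natCast T, hTsv, hFsv, zpow_pair_zpow, zpow_pair_zpow,
          zpow_pair_mul, ← zpow_natCast s q]
        congr 2 <;> linarith
      show ((T ^ i * F⁻¹ ^ (i * α / N) : Lˣ) : L) ∈ φ.range
      rw [key, Units.val_mul]
      exact mul_mem (hsmem _) (hvmem _)
  refine ⟨φ, ?_, hrange, hφs ▸ s.isUnit, fun b => ?_⟩
  · refine injective_of_comp hg hn x hf φ (exists_comp_eq T F hF huniv hg hn hNn hα x y hxy hf φ ?_ ?_)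
    · rw [hφs, hs]
    · rw [← hv, hφv]
      exact AdjoinRoot.liftAlgHom_root _ _ _ _
  · obtain ⟨m, p, hm⟩ := hgen b
    refine ⟨n * m, ?_⟩
    have hc : aeval (T : L) p ∈ φ.range := by
      refine Algebra.adjoin_le ?_ (aeval_mem_adjoin_singleton B _)
      rw [Set.singleton_subset_iff, hTsv, Units.val_mul, zpow_natCast]
      exact mul_mem (hsmem a) (hvmem y)
    have he : b * φ (AdjoinRoot.root _) ^ (n * m) = aeval (T : L) p * ((v ^ x : Lˣ) : L) ^ m := by
      rw [← hm, hφs, pow_mul, ← Units.val_pow_eq_pow_val, hsn, Units.val_mul, mul_pow, hF]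
      ring
    rw [he]
    exact mul_mem hc (pow_mem (hvmem x) m)

omit [IsDomain B] in
/-- Integral closure. -/
theorem isIntegral_iff_mem {A' : Type u} [CommRing A'] [Algebra B A'] [Algebra A' L] [IsScalarTower B A' L]
    [Module.Finite B A'] (hg : 0 < g) (hn : 0 < n) (x : ℤ)
    [IsReduced (Model u f g n x hg ⧸ Ideal.span {AdjoinRoot.root (X ^ n - C (cst u f g x hg))})]
    (φ : Model u f g n x hg →ₐ[B] L) (hinj : Function.Injective φ) (hu : IsUnit (φ (AdjoinRoot.root _)))
    (hden : ∀ b : L, ∃ m : ℕ, b * φ (AdjoinRoot.root _) ^ m ∈ φ.range) (b : L) :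
    IsIntegral A' b ↔ b ∈ φ.range := by
  haveI : Module.Finite B (Model u f g n x hg) := finite_model u f g n x hg hn
  refine ⟨fun h => ?_, ?_⟩
  · obtain ⟨p, hp, hpb⟩ := isIntegral_trans (R := B) b h
    obtain ⟨m, z, hz⟩ := hden b
    refine mem_range_of_isIntegral φ.toRingHom (AdjoinRoot.root _) hu hinj
      ⟨p.map (algebraMap B _), hp.map _, ?_⟩ m ⟨z, hz⟩
    rw [Polynomial.eval₂_map]
    show eval₂ ((φ : Model u f g n x hg →+* L).comp (algebraMap B _)) b p = 0
    rw [φ.comp_algebraMap]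
    exact hpb
  · rintro ⟨z, rfl⟩
    exact ((Algebra.IsIntegral.isIntegral (R := B) z).map φ).tower_top

end Groth.Agent.CycCover
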